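import Groth.Agent.BECrit.Main
import Groth.Agent.FlatLift.RegSeq
import Groth.Agent.Catenary.CM
import Groth.Agent.LocH.Depth
/-!
The exactness criterion of Buchsbaum and Eisenbud with the rank condition removed.
-/
set_option autoImplicit false
set_option linter.style.haveILetI false
universe u
open RingTheory.Sequence IsLocalRing

namespace Groth.Agent.ExactLocus

variable {R : Type u} [CommRing R]

theorem det_mul_eq_zero_of_lt {s k : ℕ} (hk : k < s) (A : Matrix (Fin s) (Fin k) R) (B : Matrix (Fin k) (Fin s) R) :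
    (A * B).det = 0 := by
  let A' : Matrix (Fin s) (Fin s) R := Matrix.of fun i l => if h : (l : ℕ) < k then A i ⟨l, h⟩ else 0
  let B' : Matrix (Fin s) (Fin s) R := Matrix.of fun l i => if h : (l : ℕ) < k then B ⟨l, h⟩ i else 0
  have h : A * B = A' * B' := by
    ext i i'
    rw [Matrix.mul_apply, Matrix.mul_apply]
    rw [← Finset.sum_subset (Finset.subset_univ (Finset.univ.map (Fin.castLEEmb hk.le))) fun l _ hl => ?_,
      Finset.sum_map]
    · refine Finset.sum_congr rfl fun l _ => ?_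
      simp [A', B']
    · have hl' : ¬ (l : ℕ) < k := fun h => hl (Finset.mem_map.2 ⟨⟨l, h⟩, Finset.mem_univ _, Fin.ext rfl⟩)
      simp [A', hl']
  rw [h, Matrix.det_mul, Matrix.det_eq_zero_of_column_eq_zero ⟨k, hk⟩ fun i => by simp [A'], zero_mul]

/-- Minors of a complex: a power of a minor of one map kills the minors of too large size of the previous one. -/
theorem minor_pow_mul_minor {a n b s t : ℕ} (M : Matrix (Fin a) (Fin n) R) (N : Matrix (Fin n) (Fin b) R)
    (hMN : M * N = 0) (f : Fin s → Fin a) (g : Fin s → Fin n) (φ : Fin t → Fin n) (ψ : Fin t → Fin b)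
    (hs : 0 < s) (h : n < s + t) : (N.submatrix φ ψ).det ^ s * (M.submatrix f g).det = 0 := by
  classical
  by_cases hφ : Function.Injective φ
  swap
  · obtain ⟨i, j, hij, hne⟩ := Function.not_injective_iff.1 hφ
    have h0 : (N.submatrix φ ψ).det = 0 :=
      Matrix.det_zero_of_row_eq hne (funext fun l => by simp [Matrix.submatrix_apply, hij])
    rw [h0, zero_pow hs.ne', zero_mul]
  let D := N.submatrix φ ψ
  let v : Matrix (Fin n) (Fin t) R := N.submatrix id ψ * D.adjugate
  have hMv : M * v = 0 := by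
    rw [← Matrix.mul_assoc, show M * N.submatrix id ψ = 0 from ?_, Matrix.zero_mul]
    ext i j
    exact congrFun (congrFun hMN i) (ψ j)
  have hvφ : ∀ i j, v (φ i) j = if i = j then D.det else 0 := fun i j => by
    show (D * D.adjugate) i j = _
    rw [Matrix.mul_adjugate, Matrix.smul_apply, Matrix.one_apply]
    simp
  let c : Finset (Fin n) := (Finset.univ.image φ)ᶜ
  have hc : c.card = n - t := by
    rw [Finset.card_compl, Finset.card_image_of_injective _ hφ, Finset.card_univ, Fintype.card_fin, Fintype.card_fin]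
  let ι := c.orderEmbOfFin hc
  let C : Matrix (Fin (n - t)) (Fin s) R := Matrix.of fun k j =>
    if hm : ∃ i, φ i = g j then - v (ι k) hm.choose else if ι k = g j then D.det else 0
  have key : D.det • M.submatrix f g = M.submatrix f ι * C := by
    ext i j
    rw [Matrix.smul_apply, Matrix.mul_apply, smul_eq_mul, Matrix.submatrix_apply]
    have hsum : ∀ F : Fin n → R, ∑ k, F (ι k) = ∑ l ∈ c, F l := fun F => by
      conv_rhs => rw [← Finset.map_orderEmbOfFin_univ c hc, Finset.sum_map]
      rfl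
    by_cases hm : ∃ l, φ l = g j
    · simp only [C, Matrix.of_apply, dif_pos hm, Matrix.submatrix_apply, mul_neg, Finset.sum_neg_distrib]
      rw [hsum fun l => M (f i) l * v l hm.choose]
      have h0 : ∑ l, M (f i) l * v l hm.choose = 0 := congrFun (congrFun hMv (f i)) hm.choose
      rw [← Finset.sum_add_sum_compl (Finset.univ.image φ), Finset.sum_image hφ.injOn] at h0
      simp only [hvφ, mul_ite, mul_zero, Finset.sum_ite_eq', Finset.mem_univ, if_true, hm.choose_spec] at h0
      rw [eq_neg_iff_add_eq_zero, mul_comm]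
      exact h0
    · simp only [C, Matrix.of_apply, dif_neg hm, Matrix.submatrix_apply, mul_ite, mul_zero]
      rw [hsum fun l => if l = g j then M (f i) l * D.det else 0, Finset.sum_ite_eq',
        if_pos (by simpa [c] using fun l hl => hm ⟨l, hl⟩), mul_comm]
  have h1 := congrArg Matrix.det key
  rw [Matrix.det_smul, Fintype.card_fin, det_mul_eq_zero_of_lt (by omega) _ C] at h1
  exact h1

theorem minorIdeal_eq_bot_of_regular {a n b s t : ℕ} (M : Matrix (Fin a) (Fin n) R) (N : Matrix (Fin n) (Fin b) R)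
    (hMN : M * N = 0) (hs : 0 < s) (h : n < s + t) (x : R) (hx : x ∈ CAlgX.minorIdeal N t) (hreg : IsSMulRegular R x) :
    CAlgX.minorIdeal M s = ⊥ := by
  rw [CAlgX.minorIdeal, Ideal.span_eq_bot]
  rintro _ ⟨⟨f, g⟩, rfl⟩
  let J : Ideal R := (Submodule.span R {(M.submatrix f g).det}).annihilator
  have hle : CAlgX.minorIdeal N t ≤ J.radical := Ideal.span_le.2 fun _ ⟨⟨φ, ψ⟩, hd⟩ => ⟨s, by
    rw [← hd, Submodule.mem_annihilator_span_singleton]
    exact minor_pow_mul_minor M N hMN f g φ ψ hs h⟩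
  obtain ⟨k, hk⟩ := hle hx
  rw [Submodule.mem_annihilator_span_singleton, smul_eq_mul] at hk
  exact (hreg.pow k) (by simpa using hk)

/-- Regular sequences in an ideal of a Cohen–Macaulay local ring. -/
theorem exists_regular_of_dim [LocCoh.IsCohenMacaulayLocalRing R] (I : Ideal R) (hI : I ≠ ⊤) (j b b' : ℕ)
    (hb : ringKrullDim R = (b : WithBot ℕ∞)) (hb' : ringKrullDim (R ⧸ I) = (b' : WithBot ℕ∞)) (h : b' + j ≤ b) :
    ∃ rs : List R, rs.length = j ∧ (∀ r ∈ rs, r ∈ I) ∧ IsRegular R rs := by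
  have hdep : (j : ℕ∞) ≤ LocCoh.idealDepth I R := by
    rw [LocH.le_idealDepth_iff_forall_prime]
    intro P hP
    refine (LocH.le_idealDepth_iff_forall_prime P.asIdeal R j).1 ?_ P le_rfl
    obtain ⟨rs, hw, hmem, hle⟩ := CMFlat.exists_regular_of_prime b R hb P.asIdeal
    have hh := Catenary.height_add_dim P.asIdeal
    have hq : ringKrullDim (R ⧸ P.asIdeal) ≤ (b' : WithBot ℕ∞) :=
      hb' ▸ ringKrullDim_le_of_surjective _ (Ideal.Quotient.factor_surjective hP)
    haveI : Nontrivial (R ⧸ P.asIdeal) := Ideal.Quotient.nontrivial_iff.2 P.2.ne_top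
    have hge : j ≤ rs.length := by
      obtain ⟨a, ha⟩ := ENat.ne_top_iff_exists.1 (Ideal.height_ne_top P.2.ne_top)
      rw [← ha, Nat.cast_le] at hle
      haveI : IsLocalRing (R ⧸ P.asIdeal) := .of_surjective' _ Ideal.Quotient.mk_surjective
      obtain ⟨c, hc⟩ := SerreReg.exists_dim_nat (R ⧸ P.asIdeal)
      rw [← ha, hc, hb] at hh
      rw [hc] at hq
      have h1 : c + a = b := by exact_mod_cast hh
      have h2 : c ≤ b' := by exact_mod_cast hq
      omega
    rw [LocH.le_idealDepth_iff]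
    intro i hi
    exact LocH.subsingleton_of_isWeaklyRegular _ rs R hw hmem i (by omega)
  obtain ⟨rs, hlen, hreg, hmem⟩ := LocH.exists_isWeaklyRegular I j R ((LocH.le_idealDepth_iff _ _ _).1 hdep)
  exact ⟨rs, hlen, hmem, (IsLocalRing.isRegular_iff_isWeaklyRegular_of_subset_maximalIdeal
    fun x hx => IsLocalRing.le_maximalIdeal hI (hmem x hx)).2 hreg⟩

theorem dim_of_regular [IsLocalRing R] [IsNoetherianRing R] (I : Ideal R) (rs : List R) (hmem : ∀ r ∈ rs, r ∈ I)
    (hreg : IsRegular R rs) (b b' : ℕ) (hb : ringKrullDim R = (b : WithBot ℕ∞))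
    (hb' : ringKrullDim (R ⧸ I) = (b' : WithBot ℕ∞)) : b' + rs.length ≤ b := by
  have h1 := ringKrullDim_add_length_eq_ringKrullDim_of_isRegular rs hreg
  have h2 : ringKrullDim (R ⧸ I) ≤ ringKrullDim (R ⧸ Ideal.ofList rs) :=
    ringKrullDim_le_of_surjective _ (Ideal.Quotient.factor_surjective (Ideal.span_le.2 hmem))
  rw [hb'] at h2
  have h3 : (b' : WithBot ℕ∞) + rs.length ≤ b := (add_le_add h2 le_rfl).trans (h1.trans hb).le
  exact_mod_cast h3

/-- The criterion, with the ranks prescribed instead of measured. -/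
theorem exact_iff [LocCoh.IsCohenMacaulayLocalRing R] (e : ℕ) (he : 1 ≤ e) (n : ℕ → ℕ)
    (A : (i : ℕ) → Matrix (Fin (n i)) (Fin (n (i + 1))) R) (hA : ∀ i, i + 2 ≤ e → A i * A (i + 1) = 0) :
    BECrit.ExactAll e n A ↔ ∀ i < e, ∃ r : ℕ, (r : ℤ) = BECrit.altSum n e (i + 1) ∧
      (CAlgX.minorIdeal (A i) r = ⊤ ∨ ∃ rs : List R,
        rs.length = i + 1 ∧ (∀ x ∈ rs, x ∈ CAlgX.minorIdeal (A i) r) ∧ IsRegular R rs) := by
  constructor
  · intro hex i hi
    obtain ⟨h1, h2⟩ := BECrit.rank_and_det_of_exactAll e n A hA hex i hi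
    exact ⟨_, h1, h2⟩
  · intro h
    have hreg : ∀ i < e, ∀ r : ℕ, (r : ℤ) = BECrit.altSum n e (i + 1) →
        ∃ x ∈ CAlgX.minorIdeal (A i) r, IsSMulRegular R x := by
      intro i hi r hr
      obtain ⟨r', hr', h'⟩ := h i hi
      obtain rfl : r = r' := by exact_mod_cast hr.trans hr'.symm
      rcases h' with htop | ⟨rs, hlen, hmem, hrs⟩
      · exact ⟨1, htop ▸ trivial, IsSMulRegular.one R⟩
      · obtain ⟨x, rs', rfl⟩ := List.exists_cons_of_length_eq_add_one hlen
        exact ⟨x, hmem x List.mem_cons_self, ((isRegular_cons_iff R x rs').1 hrs).1⟩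
    have hrk : ∀ i < e, ∀ r : ℕ, (r : ℤ) = BECrit.altSum n e (i + 1) → CAlgX.matrixRank (A i) = r := by
      intro i hi r hr
      obtain ⟨x, hx, hxr⟩ := hreg i hi r hr
      refine BECrit.matrixRank_eq (A i) ?_ fun h0 => ?_
      · rcases Nat.lt_or_ge (i + 1) e with hlt | hge
        · obtain ⟨r', hr', -⟩ := h (i + 1) hlt
          obtain ⟨y, hy, hyr⟩ := hreg (i + 1) hlt r' hr'
          refine minorIdeal_eq_bot_of_regular _ _ (hA i (by omega)) r.succ_pos ?_ y hy hyr
          have := BECrit.altSum_succ n hlt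
          omega
        · obtain rfl : i + 1 = e := le_antisymm hi hge
          rw [BECrit.altSum_top] at hr
          exact BECrit.minorIdeal_eq_bot _ (by omega)
      · rw [h0, Submodule.mem_bot] at hx
        exact one_ne_zero (α := R) (hxr (show x • (1 : R) = x • 0 by simp [hx]))
    refine BECrit.exactAll_of_rank_of_det e n A he hA (fun j hj hje => ?_) fun j hj hje => ?_ <;>
      obtain ⟨i, rfl⟩ : ∃ i, j = i + 1 := ⟨j - 1, by omega⟩
    · obtain ⟨r, hr, -⟩ := h i hje
      show (CAlgX.matrixRank (A i) : ℤ) = _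
      rw [hrk i hje r hr, hr]
    · obtain ⟨r, hr, h'⟩ := h i hje
      show CAlgX.minorIdeal (A i) (CAlgX.matrixRank (A i)) = ⊤ ∨ _
      rw [hrk i hje r hr]
      rcases h' with h' | h'
      · exact Or.inl h'
      · right
        show ∃ rs : List R, rs.length = i + 1 ∧ (∀ x ∈ rs, x ∈ CAlgX.minorIdeal (A i) (CAlgX.matrixRank (A i))) ∧ _
        rw [hrk i hje r hr]
        exact h'

end Groth.Agent.ExactLocus
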