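import Groth.Agent.ExactLocus.Algebra
import Groth.Agent.RegLocus.Main
/-!
The exactness locus of a complex in Cohen–Macaulay fibres.
-/
set_option autoImplicit false
set_option linter.style.haveILetI false
set_option backward.isDefEq.respectTransparency false
universe u
open TensorProduct RingTheory.Sequence

namespace Groth.Agent.ExactLocus

variable {R S : Type u} [CommRing R] [CommRing S] [Algebra R S] [Algebra.FiniteType R S]

theorem ringKrullDim_quot_of_equiv {A B C : Type u} [CommRing A] [CommRing B] [CommRing C] (e : A ≃+* B) (ψ : B →+* C)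
    (hψ : Function.Surjective ψ) (J : Ideal A) (hker : RingHom.ker ψ = J.map (e : A →+* B)) :
    ringKrullDim (A ⧸ J) = ringKrullDim C := by
  refine ringKrullDim_eq_of_ringEquiv ((Ideal.quotEquivOfEq ?_).trans
    (RingHom.quotientKerEquivOfSurjective (f := ψ.comp (e : A →+* B)) (hψ.comp e.surjective)))
  rw [← RingHom.comap_ker, hker]
  exact (Ideal.comap_map_of_bijective (e : A →+* B) e.bijective).symm

variable {A : Type u} [CommRing A] [Algebra R A] [Algebra.FiniteType R A]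

/-- Dimensions in the fibre local ring along a closed subscheme. -/
theorem fibre_dims (d : ℕ)
    (hCM : ∀ p : PrimeSpectrum R, LocCoh.IsCohenMacaulayRing (p.asIdeal.Fiber S))
    (heq : ∀ p : PrimeSpectrum R, ∀ P ∈ minimalPrimes (p.asIdeal.Fiber S),
      ringKrullDim (p.asIdeal.Fiber S ⧸ P) = (d : WithBot ℕ∞))
    (π : S →ₐ[R] A) (hπ : Function.Surjective π) (I : Ideal S) (hker : RingHom.ker π.toRingHom = I)
    (z : PrimeSpectrum A) (q : Ideal S) [q.IsPrime] (hq : z.asIdeal.comap π.toRingHom = q) :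
    ∃ b b' : ℕ, ringKrullDim (EGA4.FibLocRing R S q) = (b : WithBot ℕ∞) ∧
      ringKrullDim (EGA4.FibLocRing R S q ⧸ I.map (algebraMap S (EGA4.FibLocRing R S q))) = (b' : WithBot ℕ∞) ∧
      ∀ j : ℕ, (j ≤ d ∧ z ∈ SyntLib.fibreDimLE R A (d - j)) ↔ b' + j ≤ b := by
  set p := q.comap (algebraMap R S) with hp
  have hzp : z.asIdeal.comap (algebraMap R A) = p := by
    rw [hp, ← hq, Ideal.comap_comap]
    exact congrArg (Ideal.comap · z.asIdeal) π.comp_algebraMap.symm
  obtain ⟨Z, _, hZ⟩ := CMFlat.exists_prime_fiber z.asIdeal p hzp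
  let κ := p.ResidueField
  let φ : p.Fiber S →ₐ[κ] p.Fiber A := Algebra.TensorProduct.map (AlgHom.id κ κ) π
  have hφ : Function.Surjective φ := LinearMap.lTensor_surjective κ (g := π.toLinearMap) hπ
  let Q := Z.comap φ.toRingHom
  haveI : Q.IsPrime := Ideal.IsPrime.comap _
  let incS : S →+* p.Fiber S := (Algebra.TensorProduct.includeRight : S →ₐ[R] p.Fiber S).toRingHom
  let incA : A →+* p.Fiber A := (Algebra.TensorProduct.includeRight : A →ₐ[R] p.Fiber A).toRingHom
  have hcomm : φ.toRingHom.comp incS = incA.comp π.toRingHom := RingHom.ext fun s => by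
    simp [φ, incS, incA]
  have hQ : Q.comap incS = q := by
    rw [Ideal.comap_comap, hcomm, ← Ideal.comap_comap]
    exact (congrArg (Ideal.comap π.toRingHom) hZ).trans hq
  obtain ⟨e, he⟩ := RegLocus.exists_fibLoc_equiv q Q hQ
  obtain ⟨b, δ, hb, hD, hδ⟩ := CMChart.localDim_primeSpectrum (k := κ) (⟨Q, inferInstance⟩ : PrimeSpectrum (p.Fiber S))
  have hbd : b + δ = d := by
    obtain ⟨⟨P, hP, hPQ, hle⟩, hge⟩ := LocalDimBC.localDim_spec (k := κ) (⟨Q, inferInstance⟩ : PrimeSpectrum (p.Fiber S))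
    have h := le_antisymm hle (hge P hP hPQ)
    rw [hD, heq ⟨p, inferInstance⟩ P hP] at h
    exact_mod_cast h
  obtain ⟨b', δ', hb', hD', hδ'⟩ := CMChart.localDim_primeSpectrum (k := κ) (⟨Z, inferInstance⟩ : PrimeSpectrum (p.Fiber A))
  have hδδ : δ' = δ := by
    have h := RegLocus.trdeg_quot_comap φ hφ Z
    change Algebra.trdeg κ (p.Fiber S ⧸ Q) = _ at h
    rw [NoethPre.trdeg_residueField, NoethPre.trdeg_residueField, hδ, hδ'] at h
    exact_mod_cast h.symm
  obtain ⟨ψ, hψ, hψker, -⟩ := SyntLib.exists_local_quot φ hφ Z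
  have hkφ : RingHom.ker φ.toRingHom = I.map incS := by
    rw [← hker]
    exact Algebra.TensorProduct.lTensor_ker (A := κ) π hπ
  refine ⟨b, b', (ringKrullDim_eq_of_ringEquiv e).trans hb, ?_, fun j => ?_⟩
  · rw [ringKrullDim_quot_of_equiv (B := Localization.AtPrime Q) e ψ.toRingHom hψ]
    · exact hb'
    · rw [hψker, hkφ, Ideal.map_map, Ideal.map_map]
      exact congrArg (fun h : S →+* Localization.AtPrime Q => I.map h) (RingHom.ext fun x => (he x).symm)
  have hzc : PrimeSpectrum.comap incA ⟨Z, inferInstance⟩ = z := PrimeSpectrum.ext hZ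
  have hmem : z ∈ SyntLib.fibreDimLE R A (d - j) ↔ b' + δ' ≤ d - j := by
    rw [← hzc]
    show FlatMor.fibreDimAt _ _ ≤ _ ↔ _
    rw [SyntLib.fibreDimAt_eq_localDim p ⟨Z, inferInstance⟩, hD']
    exact Nat.cast_le
  rw [hmem]
  omega

theorem cm_fibLocRing (hCM : ∀ p : PrimeSpectrum R, LocCoh.IsCohenMacaulayRing (p.asIdeal.Fiber S))
    (q : Ideal S) [q.IsPrime] : LocCoh.IsCohenMacaulayLocalRing (EGA4.FibLocRing R S q) := by
  obtain ⟨Q, _, ⟨e⟩⟩ := FlatDepth.exists_fibre_equiv (A := R) q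
  haveI := hCM ⟨q.comap (algebraMap R S), inferInstance⟩
  exact CMChart.isCohenMacaulayLocalRing_of_ringEquiv e
    (LocCoh.IsCohenMacaulayRing.isCohenMacaulayLocalRing_localization Q)

theorem map_fibLoc_eq_top_iff (q : Ideal S) [q.IsPrime] (I : Ideal S) :
    I.map (algebraMap S (EGA4.FibLocRing R S q)) = ⊤ ↔ ¬ I ≤ q := by
  haveI : Nontrivial (EGA4.FibLocRing R S q) := by
    refine Ideal.Quotient.nontrivial_iff.2 (ne_top_of_le_ne_top (IsLocalRing.maximalIdeal.isMaximal _).ne_top ?_)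
    rw [IsScalarTower.algebraMap_eq R S, ← Ideal.map_map, ← Localization.AtPrime.map_eq_maximalIdeal]
    exact Ideal.map_mono Ideal.map_comap_le
  haveI : IsLocalRing (EGA4.FibLocRing R S q) := .of_surjective' _ Ideal.Quotient.mk_surjective
  constructor
  · intro h hle
    refine (IsLocalRing.maximalIdeal.isMaximal (EGA4.FibLocRing R S q)).ne_top (top_le_iff.1 (h ▸ ?_))
    refine (Ideal.map_mono hle).trans ?_
    rw [IsScalarTower.algebraMap_eq S (Localization.AtPrime q) (EGA4.FibLocRing R S q), ← Ideal.map_map,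
      Localization.AtPrime.map_eq_maximalIdeal]
    exact (LocH.map_maximalIdeal_of_surjective Ideal.Quotient.mk_surjective).le
  · intro h
    obtain ⟨x, hx, hxq⟩ := SetLike.not_le_iff_exists.1 h
    refine Ideal.eq_top_of_isUnit_mem _ (Ideal.mem_map_of_mem _ hx) ?_
    rw [IsScalarTower.algebraMap_apply S (Localization.AtPrime q) (EGA4.FibLocRing R S q)]
    exact (IsLocalization.map_units (Localization.AtPrime q) (⟨x, hxq⟩ : q.primeCompl)).map _

/-- The locus where an ideal is the unit ideal or has depth at least `j` in the fibre. -/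
theorem isOpen_depth_locus (d : ℕ)
    (hCM : ∀ p : PrimeSpectrum R, LocCoh.IsCohenMacaulayRing (p.asIdeal.Fiber S))
    (heq : ∀ p : PrimeSpectrum R, ∀ P ∈ minimalPrimes (p.asIdeal.Fiber S),
      ringKrullDim (p.asIdeal.Fiber S ⧸ P) = (d : WithBot ℕ∞))
    (I : Ideal S) (j : ℕ) :
    IsOpen {q : PrimeSpectrum S | I.map (algebraMap S (EGA4.FibLocRing R S q.asIdeal)) = ⊤ ∨
      ∃ rs : List (EGA4.FibLocRing R S q.asIdeal), rs.length = j ∧
        (∀ r ∈ rs, r ∈ I.map (algebraMap S (EGA4.FibLocRing R S q.asIdeal))) ∧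
        IsRegular (EGA4.FibLocRing R S q.asIdeal) rs} := by
  let π : S →ₐ[R] S ⧸ I := Ideal.Quotient.mkₐ R I
  have hπ : Function.Surjective π := Ideal.Quotient.mk_surjective
  have hce : Topology.IsClosedEmbedding (PrimeSpectrum.comap π.toRingHom) :=
    PrimeSpectrum.isClosedEmbedding_comap_of_surjective _ π.toRingHom hπ
  let G : Set (PrimeSpectrum (S ⧸ I)) := SyntLib.fibreDimLE R (S ⧸ I) (d - j) ∩ {_z | j ≤ d}
  have hG : IsOpen G := (SyntLib.isOpen_fibreDimLE R (S ⧸ I) _).inter isOpen_const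
  suffices h : ∀ q : PrimeSpectrum S, ((I.map (algebraMap S (EGA4.FibLocRing R S q.asIdeal)) = ⊤ ∨
      ∃ rs : List (EGA4.FibLocRing R S q.asIdeal), rs.length = j ∧
        (∀ r ∈ rs, r ∈ I.map (algebraMap S (EGA4.FibLocRing R S q.asIdeal))) ∧
        IsRegular (EGA4.FibLocRing R S q.asIdeal) rs)) ↔ q ∈ (PrimeSpectrum.comap π.toRingHom '' Gᶜ)ᶜ by
    simp only [h]
    exact (hce.isClosedMap _ hG.isClosed_compl).isOpen_compl
  intro q
  rw [map_fibLoc_eq_top_iff]
  by_cases hle : I ≤ q.asIdeal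
  swap
  · refine iff_of_true (Or.inl hle) fun ⟨z, _, hz⟩ => hle ?_
    rw [← hz]
    refine le_of_eq_of_le ?_ (Ideal.comap_mono (f := π.toRingHom) (bot_le (a := z.asIdeal)))
    rw [← RingHom.ker_eq_comap_bot]
    exact Ideal.mk_ker.symm
  let z : PrimeSpectrum (S ⧸ I) := ⟨q.asIdeal.map (Ideal.Quotient.mk I),
    Ideal.map_isPrime_of_surjective Ideal.Quotient.mk_surjective (by rw [Ideal.mk_ker]; exact hle)⟩
  have hzq : z.asIdeal.comap π.toRingHom = q.asIdeal := by
    show (q.asIdeal.map (Ideal.Quotient.mk I)).comap (Ideal.Quotient.mk I) = _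
    rw [Ideal.comap_map_of_surjective' _ Ideal.Quotient.mk_surjective, Ideal.mk_ker, sup_eq_left.2 hle]
  have hz : PrimeSpectrum.comap π.toRingHom z = q := PrimeSpectrum.ext hzq
  obtain ⟨b, b', hb, hb', hiff⟩ := fibre_dims d hCM heq π hπ I Ideal.mk_ker z q.asIdeal hzq
  haveI := cm_fibLocRing hCM q.asIdeal
  have hne : I.map (algebraMap S (EGA4.FibLocRing R S q.asIdeal)) ≠ ⊤ := fun h =>
    (map_fibLoc_eq_top_iff q.asIdeal I).1 h hle
  have hzG : z ∈ G ↔ b' + j ≤ b := by
    rw [← hiff j]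
    exact and_comm
  have himg : q ∈ (PrimeSpectrum.comap π.toRingHom '' Gᶜ)ᶜ ↔ z ∈ G := by
    rw [Set.mem_compl_iff]
    conv_lhs => rw [← hz]
    rw [hce.injective.mem_set_image, Set.mem_compl_iff, not_not]
  rw [himg, hzG]
  refine ⟨?_, fun h => Or.inr (exists_regular_of_dim _ hne j b b' hb hb' h)⟩
  rintro (h | ⟨rs, rfl, hmem, hreg⟩)
  · exact absurd hle h
  · exact dim_of_regular _ rs hmem hreg b b' hb hb'

theorem isOpen_forall_lt {X : Type u} [TopologicalSpace X] (e : ℕ) (P : ℕ → X → Prop)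
    (h : ∀ i < e, IsOpen {x | P i x}) : IsOpen {x | ∀ i < e, P i x} := by
  have : {x | ∀ i < e, P i x} = ⋂ i ∈ Finset.range e, {x | P i x} := by ext; simp
  rw [this]
  exact isOpen_biInter_finset fun i hi => h i (Finset.mem_range.1 hi)

/-- The exactness locus is open. -/
theorem isOpen_exact (d : ℕ)
    (hCM : ∀ p : PrimeSpectrum R, LocCoh.IsCohenMacaulayRing (p.asIdeal.Fiber S))
    (heq : ∀ p : PrimeSpectrum R, ∀ P ∈ minimalPrimes (p.asIdeal.Fiber S),
      ringKrullDim (p.asIdeal.Fiber S ⧸ P) = (d : WithBot ℕ∞))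
    (e : ℕ) (n : ℕ → ℕ) (φ : (i : ℕ) → Matrix (Fin (n i)) (Fin (n (i + 1))) S)
    (hφ : ∀ i, i + 2 ≤ e → φ i * φ (i + 1) = 0) :
    IsOpen {q : PrimeSpectrum S |
      (∀ i, i + 2 ≤ e →
        LinearMap.ker (Matrix.mulVecLin ((φ i).map (algebraMap S (EGA4.FibLocRing R S q.asIdeal)))) =
          LinearMap.range (Matrix.mulVecLin ((φ (i + 1)).map (algebraMap S (EGA4.FibLocRing R S q.asIdeal))))) ∧
      (1 ≤ e → Function.Injective
        (Matrix.mulVecLin ((φ (e - 1)).map (algebraMap S (EGA4.FibLocRing R S q.asIdeal)))))} := by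
  rcases Nat.eq_zero_or_pos e with he | he
  · subst he
    convert isOpen_univ
    exact Set.eq_univ_of_forall fun q => ⟨fun i hi => absurd hi (by omega), fun h => absurd h (by omega)⟩
  let P : ℕ → PrimeSpectrum S → Prop := fun i q => ∃ r : ℕ, (r : ℤ) = BECrit.altSum n e (i + 1) ∧
    ((CAlgX.minorIdeal (φ i) r).map (algebraMap S (EGA4.FibLocRing R S q.asIdeal)) = ⊤ ∨
      ∃ rs : List (EGA4.FibLocRing R S q.asIdeal), rs.length = i + 1 ∧
        (∀ x ∈ rs, x ∈ (CAlgX.minorIdeal (φ i) r).map (algebraMap S (EGA4.FibLocRing R S q.asIdeal))) ∧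
        IsRegular (EGA4.FibLocRing R S q.asIdeal) rs)
  have key : ∀ q : PrimeSpectrum S, ((∀ i, i + 2 ≤ e →
        LinearMap.ker (Matrix.mulVecLin ((φ i).map (algebraMap S (EGA4.FibLocRing R S q.asIdeal)))) =
          LinearMap.range (Matrix.mulVecLin ((φ (i + 1)).map (algebraMap S (EGA4.FibLocRing R S q.asIdeal))))) ∧
      (1 ≤ e → Function.Injective
        (Matrix.mulVecLin ((φ (e - 1)).map (algebraMap S (EGA4.FibLocRing R S q.asIdeal)))))) ↔ ∀ i < e, P i q := by
    intro q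
    haveI := cm_fibLocRing hCM q.asIdeal
    let T := EGA4.FibLocRing R S q.asIdeal
    let A : (i : ℕ) → Matrix (Fin (n i)) (Fin (n (i + 1))) T := fun i => (φ i).map (algebraMap S T)
    have hA : ∀ i, i + 2 ≤ e → A i * A (i + 1) = 0 := fun i hi => by
      rw [← Matrix.map_mul, hφ i hi, Matrix.map_zero _ (map_zero _)]
    have hiff := exact_iff e he n A hA
    rw [BECrit.exactAll_iff e n A he, LinearMap.ker_eq_bot] at hiff
    simp only [A, BECrit.minorIdeal_map] at hiff
    refine Iff.trans ?_ hiff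
    exact ⟨fun h => ⟨h.2 he, h.1⟩, fun h => ⟨h.2, fun _ => h.1⟩⟩
  simp only [key]
  refine isOpen_forall_lt e P fun i _ => ?_
  by_cases hr : ∃ r : ℕ, (r : ℤ) = BECrit.altSum n e (i + 1)
  · obtain ⟨r, hr⟩ := hr
    convert isOpen_depth_locus d hCM heq (CAlgX.minorIdeal (φ i) r) (i + 1) using 1
    ext q
    refine ⟨fun ⟨r', hr', h⟩ => ?_, fun h => ⟨r, hr, h⟩⟩
    obtain rfl : r' = r := by exact_mod_cast hr'.trans hr.symm
    exact h
  · convert isOpen_empty
    exact Set.eq_empty_of_forall_notMem fun q ⟨r, h, _⟩ => hr ⟨r, h⟩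

end Groth.Agent.ExactLocus
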